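import Groth.Agent.Lib.IdealMul9.GenericPiece
import Groth.Agent.Lib.IdealMul9.Ops
import Groth.Agent.Lib.RatSheaf9.Basic
import Groth.Agent.Lib.FinCov.FrameFree
import Groth.Agent.Lib.IdealMul9.MaxQcoh
import Groth.Agent.Lib.Ref1.Frame
import Groth.Agent.Lib.QCoh.DevissageRoots

/-!
Coherent modules on a finite cover agreeing generically with free modules or powers of a given module.
-/

set_option autoImplicit false
set_option maxHeartbeats 1000000
set_option backward.isDefEq.respectTransparency false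
universe u

noncomputable section

open CategoryTheory CategoryTheory.Limits AlgebraicGeometry TopologicalSpace Opposite

namespace GrothLib.FinGen9

open GrothLib.QCoh GrothLib.IdealMul9

attribute [local instance] Abelian.hasFiniteBiproducts

theorem exists_hom_idealMul {Z : Scheme.{u}} [IsNoetherian Z] [IsIntegral Z] (A B : Z.Modules)
    (hA : Coh.IsCoh A) (hB : B.IsQuasicoherent)
    (θ : A.presheaf.stalk (genericPoint Z) ≃ₗ[Z.presheaf.stalk (genericPoint Z)] B.presheaf.stalk (genericPoint Z)) :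
    ∃ (I : Z.IdealSheafData) (ψ : (Dual3.idealMul I).obj A ⟶ B),
      Function.Bijective (stalkLin ψ (genericPoint Z)) := by
  classical
  let η := genericPoint Z
  obtain ⟨V, hV, φ₀, hφ₀⟩ := CohHom9.exists_hom_restrict B A hA η θ.toLinearMap
  let C : Closeds Z := ⟨(V : Set Z)ᶜ, V.isOpen.isClosed_compl⟩
  let J := Scheme.IdealSheafData.vanishingIdeal C
  have hJ : (V : Set Z) = (J.support : Set Z)ᶜ := by
    rw [Scheme.IdealSheafData.coe_support_vanishingIdeal, show (C : Set Z) = (V : Set Z)ᶜ from rfl,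
      compl_compl]
  obtain ⟨n, ψ, hψ⟩ := exists_lift_pow hB hA J V hJ φ₀
  let N := (Dual3.idealMul (J ^ n)).obj A
  let j : N ⟶ A := Dual3.idealMulι (J ^ n) A
  have hjb : Function.Bijective (stalkLin j η) := by
    refine ⟨stalkLin_injective j η, fun v => ?_⟩
    obtain ⟨W₀, hW, hηW, hWV⟩ := Opens.isBasis_iff_nbhd.1 Z.isBasis_affineOpens hV
    let W : Z.affineOpens := ⟨W₀, hW⟩
    have htop : J.ideal W = ⊤ := by
      by_contra hne
      obtain ⟨P, hP, hle⟩ := Ideal.exists_le_maximal _ hne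
      have hmem : W.2.fromSpec ⟨P, hP.isPrime⟩ ∈ (W.1 : Set Z) := W.2.range_fromSpec ▸ ⟨_, rfl⟩
      have hsup : W.2.fromSpec ⟨P, hP.isPrime⟩ ∈ (J.support : Set Z) := by
        refine ((J.coe_support_inter W).ge ⟨?_, hmem⟩).1
        have := W.2.fromSpec_image_zeroLocus (J.ideal W : Set Γ(Z, W.1))
        exact (this ▸ ⟨⟨P, hP.isPrime⟩, hle, rfl⟩ : _ ∈ Z.zeroLocus (U := W.1) (J.ideal W : Set Γ(Z, W.1)) ∩ W.1).1
      have hV' : W.2.fromSpec ⟨P, hP.isPrime⟩ ∈ (V : Set Z) := hWV hmem
      rw [hJ] at hV'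
      exact hV' hsup
    haveI := hA.1
    obtain ⟨c, z, hc, hz⟩ := WeakAss.exists_smul_eq_germ W.2 hηW v
    obtain ⟨w, hw⟩ := (exists_app_idealMulι_iff (J ^ n) hA.1 W z).2 (by
      rw [Scheme.IdealSheafData.ideal_pow, Pi.pow_apply, htop, ← Ideal.one_eq_top, one_pow, Ideal.one_eq_top,
        Submodule.top_smul]
      trivial)
    have hu : IsUnit (Z.presheaf.germ W.1 η hηW c) :=
      (Scheme.mem_basicOpen _ c η hηW).mp (WeakAss.notMem_primeAt_iff.mp hc)
    refine ⟨((hu.unit⁻¹ : _ˣ) : Z.presheaf.stalk η) • N.presheaf.germ W.1 η hηW w, ?_⟩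
    rw [map_smul, stalkLin_germ, hw, ← hz, smul_smul, IsUnit.val_inv_mul, one_smul]
  have hψb : ∀ v, stalkLin ψ η v = θ (stalkLin j η v) := fun v => by
    have h1 := stalkLin_eq_of_restrict_eq hψ hV v
    refine h1.trans (Eq.trans ?_ (ConcreteCategory.congr_hom hφ₀ (stalkLin j η v)))
    have h3 := stalkLin_eq_of_restrict_eq (f := j) rfl hV v
    rw [h3, ← ConcreteCategory.comp_apply]
    congr 1
    rw [show ∀ {A B C : (V : Scheme.{u}).Modules} (a : A ⟶ B) (b : B ⟶ C),
      (a ≫ b).mapPresheaf = a.mapPresheaf ≫ b.mapPresheaf from fun _ _ => rfl, Functor.map_comp]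
    simp only [Category.assoc, Iso.hom_inv_id_app_assoc]
    rfl
  refine ⟨J ^ n, ψ, ?_⟩
  rw [show ⇑(stalkLin ψ η) = ⇑θ ∘ ⇑(stalkLin j η) from funext hψb]
  exact θ.bijective.comp hjb

theorem stalk_sigma {Z : Scheme.{u}} (A : Z.Modules) (x : Z) (n : ℕ) :
    Nonempty ((∐ fun _ : Fin n => A).presheaf.stalk x ≃ₗ[Z.presheaf.stalk x] (Fin n → A.presheaf.stalk x)) := by
  haveI : PreservesBiproduct (fun _ : Fin n => A) (OX.stalk x) :=
    (preservesBiproductsOfShape_of_preservesCoproductsOfShape (OX.stalk x)).preserves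
  exact ⟨((OX.stalk x).mapIso (biproduct.isoCoproduct _).symm ≪≫
    (OX.stalk x).mapBiproduct (fun _ : Fin n => A) ≪≫
    ModuleCat.biproductIsoPi (fun _ : Fin n => (OX.stalk x).obj A)).toLinearEquiv⟩

variable {X Y : Scheme.{u}} [IsIntegral X] [IsIntegral Y] (f : X ⟶ Y) [Surjective f]

theorem map_genericPoint : f (genericPoint X) = genericPoint Y := by
  have h : IsGenericPoint (f (genericPoint X)) (closure (f '' Set.univ)) :=
    (genericPoint_spec X).image f.continuous
  rw [Set.image_univ, Function.Surjective.range_eq f.surjective, closure_univ] at h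
  exact h.eq (genericPoint_spec Y)

theorem genericPoint_mem {V : Y.Opens} (hV : genericPoint Y ∈ V) : genericPoint X ∈ f ⁻¹ᵁ V := by
  show f (genericPoint X) ∈ V
  rw [map_genericPoint f]
  exact hV

/-- The rational functions of the cover, as a stalk of the pushforward. -/
def kappa : X.functionField →+ ((Coh.push f).obj (RatSheaf9.rat X)).presheaf.stalk (genericPoint Y) :=
  AddMonoidHom.mk' (fun c => ((Coh.push f).obj (RatSheaf9.rat X)).presheaf.germ ⊤ (genericPoint Y) trivial
    (RatSheaf9.val (f ⁻¹ᵁ ⊤) c)) fun a b => by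
      rw [map_add]
      exact map_add _ _ _

theorem kappa_eq {V : Y.Opens} (hV : genericPoint Y ∈ V) (c : X.functionField) :
    kappa f c = ((Coh.push f).obj (RatSheaf9.rat X)).presheaf.germ V (genericPoint Y) hV
      (RatSheaf9.val (f ⁻¹ᵁ V) c) := by
  refine (TopCat.Presheaf.germ_res_apply ((Coh.push f).obj (RatSheaf9.rat X)).presheaf
    (homOfLE (le_top : V ≤ ⊤)) (genericPoint Y) hV (RatSheaf9.val (f ⁻¹ᵁ ⊤) c)).symm.trans ?_
  exact congrArg _ (RatSheaf9.map_val _ c)

theorem kappa_surjective : Function.Surjective (kappa f) := fun v => by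
  obtain ⟨V, hV, s, rfl⟩ :=
    TopCat.Presheaf.exists_germ_eq ((Coh.push f).obj (RatSheaf9.rat X)).presheaf v
  obtain ⟨c, hc⟩ := (RatSheaf9.val_bijective (genericPoint_mem f hV)).2 s
  exact ⟨c, (kappa_eq f hV c).trans (congrArg _ hc)⟩

variable [IsFinite f] [IsNoetherian Y] [IsNoetherian X]

omit [IsIntegral X] [Surjective f] [IsIntegral Y] [AlgebraicGeometry.IsNoetherian Y] in
theorem isCoh_push {M : X.Modules} (hM : Coh.IsCoh M) [IsLocallyNoetherian Y] : Coh.IsCoh ((Coh.push f).obj M) :=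
  haveI := hM.1
  ⟨isQuasicoherent_pushforward f M, isFiniteType_pushforward f M hM.2⟩

/-- The structure sheaf inside the rational functions. -/
abbrev unitRat : Coh.structureModule X ⟶ RatSheaf9.rat X := FinCov.homOfSection (RatSheaf9.val ⊤ 1)

omit [AlgebraicGeometry.IsNoetherian Y] [AlgebraicGeometry.IsNoetherian X] in
theorem surjective_stalk_unitRat :
    Function.Surjective (stalkLin ((Coh.push f).map (unitRat (X := X))) (genericPoint Y)) := by
  intro v
  obtain ⟨c, rfl⟩ := kappa_surjective f v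
  obtain ⟨V, hV, hηV, -⟩ := exists_isAffineOpen_mem_and_subset (show genericPoint Y ∈ (⊤ : Y.Opens) from trivial)
  let W : X.Opens := f ⁻¹ᵁ V
  have hξ : genericPoint X ∈ W := genericPoint_mem f hηV
  haveI : Nonempty W := ⟨⟨_, hξ⟩⟩
  letI : Algebra Γ(X, W) X.functionField := (X.presheaf.germ W (genericPoint X) hξ).hom.toAlgebra
  haveI : IsFractionRing Γ(X, W) X.functionField :=
    functionField_isFractionRing_of_isAffineOpen X W (hV.preimage f)
  letI : Algebra Γ(Y, V) Γ(X, W) := (f.app V).hom.toAlgebra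
  haveI : Module.Finite Γ(Y, V) Γ(X, W) := f.finite_app V hV
  haveI : IsDomain Γ(X, W) := inferInstance
  obtain ⟨a, b, hb, hab⟩ := IsFractionRing.div_surjective Γ(X, W) c
  have hb0 : b ≠ 0 := nonZeroDivisors.ne_zero hb
  obtain ⟨b', a₀, ha₀, hbb⟩ : ∃ (b' : Γ(X, W)) (a₀ : Γ(Y, V)), algebraMap Γ(Y, V) Γ(X, W) a₀ ≠ 0 ∧
      algebraMap Γ(Y, V) Γ(X, W) a₀ = b * b' := by
    obtain ⟨p, hp, hpz⟩ := Algebra.IsIntegral.isIntegral (R := Γ(Y, V)) b
    have key : ∀ (d : ℕ) (q : Polynomial Γ(Y, V)), q.natDegree ≤ d → q.map (algebraMap Γ(Y, V) Γ(X, W)) ≠ 0 →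
        Polynomial.aeval b q = 0 → ∃ (b' : Γ(X, W)) (a₀ : Γ(Y, V)),
          algebraMap Γ(Y, V) Γ(X, W) a₀ ≠ 0 ∧ algebraMap Γ(Y, V) Γ(X, W) a₀ = b * b' := by
      intro d
      induction d with
      | zero =>
        intro q hq hne hz
        rw [Polynomial.eq_C_of_natDegree_le_zero hq, Polynomial.aeval_C] at hz
        refine absurd ?_ hne
        rw [Polynomial.eq_C_of_natDegree_le_zero hq, Polynomial.map_C, hz, map_zero]
      | succ d ih =>
        intro q hq hne hz
        rw [← Polynomial.X_mul_divX_add q, map_add, map_mul, Polynomial.aeval_X, Polynomial.aeval_C] at hz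
        by_cases h0 : algebraMap Γ(Y, V) Γ(X, W) (q.coeff 0) = 0
        · rw [h0, add_zero] at hz
          refine ih q.divX ?_ ?_ ((mul_eq_zero.1 hz).resolve_left hb0)
          · rw [Polynomial.natDegree_divX_eq_natDegree_tsub_one]; omega
          · intro hz'
            apply hne
            rw [← Polynomial.X_mul_divX_add q, Polynomial.map_add, Polynomial.map_mul, hz', mul_zero,
              Polynomial.map_C, h0, map_zero, add_zero]
        · exact ⟨-Polynomial.aeval b q.divX, q.coeff 0, h0, by rw [mul_neg]; exact eq_neg_of_add_eq_zero_right hz⟩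
    exact key p.natDegree p le_rfl (hp.map _).ne_zero hpz
  have ha₀' : a₀ ≠ 0 := fun h => ha₀ (by rw [h, map_zero])
  haveI : Nonempty V := ⟨⟨_, hηV⟩⟩
  have hu : IsUnit (Y.presheaf.germ V (genericPoint Y) hηV a₀) :=
    isUnit_iff_ne_zero (G₀ := Y.functionField) |>.2
      ((map_ne_zero_iff _ (germ_injective_of_isIntegral Y (genericPoint Y) hηV)).2 ha₀')
  let F₀ := (Coh.push f).obj (Coh.structureModule X)
  let F₁ := (Coh.push f).obj (RatSheaf9.rat X)
  let s : Γ(F₀, V) := (show Γ(Coh.structureModule X, W) from a * b')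
  refine ⟨((hu.unit⁻¹ : _ˣ) : Y.presheaf.stalk (genericPoint Y)) • F₀.presheaf.germ V _ hηV s, ?_⟩
  rw [map_smul, stalkLin_germ]
  have hone : (unitRat (X := X)).app W (FinCov.one X W) = RatSheaf9.val W 1 :=
    (FinCov.homOfSection_one _ W).trans (RatSheaf9.map_val _ 1)
  have e1 : ((Coh.push f).map (unitRat (X := X))).app V s =
      (show Γ(F₁, V) from RatSheaf9.val W (X.presheaf.germ W (genericPoint X) hξ (a * b'))) := by
    show (unitRat (X := X)).app W (show Γ(Coh.structureModule X, W) from a * b') = _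
    refine (congrArg ((unitRat (X := X)).app W) (FinCov.smul_one W (a * b')).symm).trans ?_
    rw [Scheme.Modules.Hom.app_smul, hone, RatSheaf9.smul_val hξ, mul_one]
  rw [e1]
  have e2 : (show Γ(F₁, V) from RatSheaf9.val W (X.presheaf.germ W (genericPoint X) hξ (a * b'))) =
      a₀ • (show Γ(F₁, V) from RatSheaf9.val W c) := by
    show _ = (f.app V a₀) • RatSheaf9.val W c
    rw [RatSheaf9.smul_val hξ]
    refine congrArg (RatSheaf9.val W) ?_
    have hbK : algebraMap Γ(X, W) X.functionField b ≠ 0 :=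
      IsFractionRing.to_map_ne_zero_of_mem_nonZeroDivisors hb
    show algebraMap Γ(X, W) X.functionField (a * b') =
      algebraMap Γ(X, W) X.functionField (algebraMap Γ(Y, V) Γ(X, W) a₀) * c
    rw [hbb, ← hab, map_mul, map_mul]
    field_simp
  rw [e2, WeakAss.germ_smul, smul_smul, IsUnit.val_inv_mul, one_smul]
  exact (kappa_eq f hηV c).symm

omit [AlgebraicGeometry.IsNoetherian Y] [AlgebraicGeometry.IsNoetherian X] in
theorem nontrivial_stalk_rat : Nontrivial (((Coh.push f).obj (RatSheaf9.rat X)).presheaf.stalk (genericPoint Y)) := by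
  refine ⟨kappa f 1, 0, fun h => ?_⟩
  obtain ⟨V, hV, i₁, i₂, e⟩ := TopCat.Presheaf.germ_eq (U := (⊤ : Y.Opens)) (V := (⊤ : Y.Opens)) ((Coh.push f).obj (RatSheaf9.rat X)).presheaf (genericPoint Y) trivial trivial (RatSheaf9.val (f ⁻¹ᵁ ⊤) 1) 0
    (h.trans (map_zero _).symm)
  rw [map_zero] at e
  have h1 := (RatSheaf9.map_val ((Opens.map f.base).map i₁) 1).symm.trans e
  exact one_ne_zero ((RatSheaf9.val_bijective (genericPoint_mem f hV)).1 (h1.trans (map_zero _).symm))

theorem finite_stalk_rat :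
    Module.Finite (Y.presheaf.stalk (genericPoint Y)) (((Coh.push f).obj (RatSheaf9.rat X)).presheaf.stalk (genericPoint Y)) :=
  haveI := Euler.stalk_finite (isCoh_push f (HomSh.isCoh_structureModule X)) (genericPoint Y)
  Module.Finite.of_surjective (stalkLin ((Coh.push f).map (unitRat (X := X))) (genericPoint Y))
    (surjective_stalk_unitRat f)

theorem exists_free_to_push :
    ∃ (r : ℕ) (M : X.Modules) (α : FlatMod.freeMod Y r ⟶ (Coh.push f).obj M),
      0 < r ∧ Coh.IsCoh M ∧ Function.Bijective (stalkLin α (genericPoint Y)) := by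
  classical
  let η := genericPoint Y
  let T := ((Coh.push f).obj (RatSheaf9.rat X)).presheaf.stalk η
  haveI := finite_stalk_rat f
  haveI := nontrivial_stalk_rat f
  let b := Module.finBasis Y.functionField T
  let r := Module.finrank Y.functionField T
  choose c hc using fun i => kappa_surjective f (b i)
  let a : FlatMod.freeMod X r ⟶ RatSheaf9.rat X := Sigma.desc fun i => FinCov.homOfSection (RatSheaf9.val ⊤ (c i))
  haveI : QuasiCompact (RatSheaf9.jK X) := inferInstance
  haveI : (RatSheaf9.rat X).IsQuasicoherent :=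
    haveI := Cohom.isQuasicoherent_structureModule (Spec X.functionField)
    isQuasicoherent_pushforward _ _
  have hfree := DegDet.isCoh_freeMod X r
  haveI := hfree.1
  let M := Abelian.image a
  haveI := isQuasicoherent_kernel a
  have hM : Coh.IsCoh M := isCoh_of_iso (Abelian.coimageIsoImage a)
    ⟨isQuasicoherent_cokernel (kernel.ι a), isFiniteType_cokernel (kernel.ι a) hfree.2⟩
  haveI hMq : M.IsQuasicoherent := hM.1
  let m : Fin r → Γ(M, ⊤) := fun i => (Abelian.factorThruImage a).app ⊤ (DegDet.freeSec X r i)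
  let α : FlatMod.freeMod Y r ⟶ (Coh.push f).obj M :=
    Sigma.desc fun i => FinCov.homOfSection (show Γ((Coh.push f).obj M, ⊤) from m i)
  refine ⟨r, M, α, Module.finrank_pos, hM, ?_⟩
  let ιM := (Coh.push f).map (Abelian.image.ι a)
  haveI : Mono ιM := mono_of_app_injective _ fun U => Cohom.app_injective_of_mono (Abelian.image.ι a) (f ⁻¹ᵁ U)
  obtain ⟨bY⟩ := Euler.stalk_basis_of_frame (DegDet.isFrame_freeSec Y r) (show η ∈ (⊤ : Y.Opens) from trivial)
  have hb : ∀ i, stalkLin ιM η (stalkLin α η ((FlatMod.freeMod Y r).presheaf.germ ⊤ η trivial (DegDet.freeSec Y r i))) = b i := by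
    intro i
    rw [stalkLin_germ, stalkLin_germ, ← hc i]
    show _ = ((Coh.push f).obj (RatSheaf9.rat X)).presheaf.germ ⊤ η trivial (RatSheaf9.val (f ⁻¹ᵁ ⊤) (c i))
    congr 1
    have e1 : α.app ⊤ (DegDet.freeSec Y r i) = (show Γ((Coh.push f).obj M, ⊤) from m i) := by
      show (Sigma.ι (fun _ : Fin r => Coh.structureModule Y) i ≫ α).app ⊤ (FinCov.one Y ⊤) = _
      simp only [α, Sigma.ι_desc]
      rw [FinCov.homOfSection_one, Cohom.map_self_apply]
    rw [e1]
    show (Abelian.image.ι a).app ⊤ ((Abelian.factorThruImage a).app ⊤ (DegDet.freeSec X r i)) = _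
    rw [← IdealMul9.app_comp_apply, Abelian.image.fac]
    show (Sigma.ι (fun _ : Fin r => Coh.structureModule X) i ≫ a).app ⊤ (FinCov.one X ⊤) = _
    simp only [a, Sigma.ι_desc]
    rw [FinCov.homOfSection_one, Cohom.map_self_apply]
    rfl
  have hfr := GrothLib.Ref1.stalk_of_isFrame (DegDet.isFrame_freeSec Y r) η trivial
  have hbij : Function.Bijective (fun v => stalkLin ιM η (stalkLin α η v)) := by
    refine (Function.Bijective.of_comp_iff _ hfr).1 ?_
    let L := ((stalkLin ιM η).comp (stalkLin α η)).comp (GrothLib.Ref1.stalkComb (DegDet.freeSec Y r) η trivial)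
    have hL : L = b.equivFun.symm.toLinearMap := LinearMap.ext fun v => by
      refine Eq.trans ?_ (b.equivFun_symm_apply v).symm
      simp only [L, LinearMap.comp_apply, GrothLib.Ref1.stalkComb, Fintype.linearCombination_apply, map_sum,
        map_smul]
      exact Finset.sum_congr rfl fun i _ => congrArg (fun w : T => v i • w) (hb i)
    exact (congrArg (fun L : _ →ₗ[_] _ => Function.Bijective L) hL).mpr b.equivFun.symm.bijective
  have hinj := stalkLin_injective ιM η
  exact ⟨fun v w h => hbij.1 (congrArg (stalkLin ιM η) h), fun w => by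
    obtain ⟨v, hv⟩ := hbij.2 (stalkLin ιM η w)
    exact ⟨v, hinj hv⟩⟩

theorem exists_push_to_pow (F : Y.Modules) (hF : Coh.IsCoh F) :
    ∃ (r : ℕ) (G : X.Modules) (β : (Coh.push f).obj G ⟶ ∐ fun _ : Fin r => F),
      0 < r ∧ Coh.IsCoh G ∧ Function.Bijective (stalkLin β (genericPoint Y)) := by
  classical
  let η := genericPoint Y
  let K := Y.functionField
  let A₀ := (Coh.push f).obj (Coh.structureModule X)
  have hA₀ : Coh.IsCoh A₀ := isCoh_push f (HomSh.isCoh_structureModule X)
  haveI : Module.Finite K (A₀.presheaf.stalk η) := Euler.stalk_finite hA₀ η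
  haveI : Module.Finite K (F.presheaf.stalk η) := Euler.stalk_finite hF η
  haveI := nontrivial_stalk_rat f
  haveI : Nontrivial (A₀.presheaf.stalk η) := (surjective_stalk_unitRat f).nontrivial
  let d := Module.finrank K (A₀.presheaf.stalk η)
  let b := Module.finrank K (F.presheaf.stalk η)
  haveI : (Coh.push f).Additive := inferInstance
  let G₀ := ∐ fun _ : Fin b => Coh.structureModule X
  have hG₀ : Coh.IsCoh G₀ := DegDet.isCoh_freeMod X b
  let eA : (Coh.push f).obj G₀ ≅ ∐ fun _ : Fin b => A₀ :=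
    (Coh.push f).mapIso (biproduct.isoCoproduct _).symm ≪≫
      (Coh.push f).mapBiproduct (fun _ : Fin b => Coh.structureModule X) ≪≫ biproduct.isoCoproduct _
  obtain ⟨s1⟩ := stalk_sigma A₀ η b
  obtain ⟨s2⟩ := stalk_sigma F η d
  let P := Fin b → A₀.presheaf.stalk η
  let Q := Fin d → F.presheaf.stalk η
  let θ : ((Coh.push f).obj G₀).presheaf.stalk η ≃ₗ[K] (∐ fun _ : Fin d => F).presheaf.stalk η :=
    ((OX.stalk η).mapIso eA).toLinearEquiv.trans (s1.trans ((LinearEquiv.ofFinrankEq (R := K) P Q (by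
      rw [Module.finrank_pi_fintype, Module.finrank_pi_fintype, Finset.sum_const, Finset.sum_const,
        Finset.card_univ, Finset.card_univ, Fintype.card_fin, Fintype.card_fin, smul_eq_mul, smul_eq_mul]
      exact Nat.mul_comm _ _)).trans s2.symm))
  haveI : (∐ fun _ : Fin d => F).IsQuasicoherent :=
    haveI := (isCoh_biproduct_fin (fun _ : Fin d => F) fun _ => hF).1
    isQuasicoherent_of_iso (M := ⨁ fun _ : Fin d => F) (biproduct.isoCoproduct _)
  obtain ⟨I, ψ, hψ⟩ := exists_hom_idealMul _ _ (isCoh_push f hG₀) inferInstance θ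
  obtain ⟨e, -⟩ := exists_pushforward_iso f hG₀.1 I
  refine ⟨d, (Dual3.idealMul (I.comap f)).obj G₀, e.inv ≫ ψ, Module.finrank_pos, isCoh_idealMul _ hG₀, ?_⟩
  rw [show ⇑(stalkLin (e.inv ≫ ψ) η) = ⇑(stalkLin ψ η) ∘ ⇑(stalkLin e.inv η) from funext (stalkLin_comp e.inv ψ η)]
  exact hψ.comp ((OX.stalk η).mapIso e.symm).toLinearEquiv.bijective

end GrothLib.FinGen9
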